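import Groth.Agent.CAlgH3.GrModH1
import Groth.Agent.TwistLib.G.Loc

/-!
# Bijectivity of `M_n → Γ(Proj, M(n)~)` is local on the degree zero base
-/

set_option autoImplicit false
set_option linter.unusedSectionVars false
set_option linter.style.haveILetI false
set_option backward.isDefEq.respectTransparency.types false

universe u

open AlgebraicGeometry CategoryTheory Opposite
open Groth.Agent.CAlgH3.GrModH1
open scoped HomogeneousIdeal

namespace Groth.Agent.GrAlphaLocal14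

section char

variable {A σ : Type u} [CommRing A] [IsNoetherianRing A] [SetLike σ A] [AddSubgroupClass σ A]
  {𝒜 : ℕ → σ} [GradedRing 𝒜]
  {M τ : Type u} [AddCommGroup M] [Module A M] [SetLike τ M] [AddSubgroupClass τ M] {ℳ : ℕ → τ}
  [SetLike.GradedSMul 𝒜 ℳ] [DirectSum.Decomposition ℳ]
  {r : ℕ} (f : Fin r → A) {d : Fin r → ℕ} (hd : ∀ j, 0 < d j) (hf : ∀ j, f j ∈ 𝒜 (d j))

variable (d ℳ) in
/-- Elementwise form of the bijectivity of `M_n → Γ(Proj, M(n)~)`. -/
def Good (n : ℕ) : Prop :=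
  (∀ m ∈ ℳ n, (∀ j, ∃ N : ℕ, f j ^ N • m = 0) → m = 0) ∧
  (∀ (k : ℕ) (c : Fin r → M), (∀ j, c j ∈ ℳ (k * d j + n)) →
    (∀ j l, f l ^ k • c j = f j ^ k • c l) →
      ∃ m ∈ ℳ n, ∀ j, ∃ N : ℕ, f j ^ N • f j ^ k • m = f j ^ N • c j)

/-- The component in degree `n` of an element is in degree `n`. -/
theorem compZ_mem (n : ℕ) (m : M) : compZ ℳ (n : ℤ) m ∈ ℳ n := by
  rcases inDeg_compZ (ℳ := ℳ) (n : ℤ) m with ⟨i, hi, hmem⟩ | h0
  · rwa [show i = n by omega] at hmem
  · rw [h0]; exact zero_mem _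

theorem mem_of_inDeg {z : ℤ} {i : ℕ} (h : z = i) {m : M} (hm : InDeg ℳ z m) : m ∈ ℳ i := by
  rcases hm with ⟨i', hi', hm⟩ | rfl
  · rwa [show i' = i by omega] at hm
  · exact zero_mem _

variable (hirr : (HomogeneousIdeal.irrelevant 𝒜).toIdeal ≤ (Ideal.span (Set.range f)).radical)

include hd hf hirr in
theorem good_iff (n : ℕ) : Good ℳ f d n ↔ Function.Bijective (GrMod.alpha 𝒜 ℳ n) := by
  constructor
  · rintro ⟨hI, hS⟩
    refine ⟨fun a b hab => sub_eq_zero.1 (Subtype.ext (hI _ (a - b).2 fun j =>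
      (mk_eq_zero_iff (t := (1 : Submonoid.powers (f j)))).1 ?_)),
      fun s => ?_⟩
    · show toLoc f ((a - b : ℳ n) : M) j = 0
      rw [AddSubgroupClass.coe_sub, map_sub, Pi.sub_apply, sub_eq_zero, ← locOf_alpha f hd hf a,
        ← locOf_alpha f hd hf b]
      exact congrFun (congrArg (locOf f hd hf (n : ℤ)) hab) j
    · choose k c hc he hs using fun j => rep_locOf f hd hf (n : ℤ) s j
      let K := Finset.univ.sup k
      let c' : Fin r → M := fun j => f j ^ (K - k j) • c j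
      have hK : ∀ j, k j + (K - k j) = K := fun j => by
        have := Finset.le_sup (f := k) (Finset.mem_univ j)
        omega
      have hc' : ∀ j, InDeg ℳ ((K : ℤ) * d j + n) (c' j) := fun j => by
        have h := congrArg (Nat.cast : ℕ → ℤ) (hK j)
        push_cast at h
        rw [show (K : ℤ) * d j + n = (((K - k j) * d j : ℕ) : ℤ) + ((k j : ℤ) * d j + n) by
          push_cast; linear_combination (-(d j : ℤ)) * h]
        exact inDeg_smul (TwistLib.G.pow_mem_deg (hf j) _) (hc j)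
      have he' : ∀ j, locOf f hd hf (n : ℤ) s j = LocalizedModule.mk (c' j) (pw (f j) K) := fun j => by
        rw [he j, ← mk_pow_shift (c j) (k j) (K - k j), hK j]
      have hs' : ∀ j (x : ProjectiveSpectrum 𝒜) (hx : f j ∉ x.asHomogeneousIdeal.toIdeal),
          ((s.1 ⟨x, trivial⟩ : GrMod.tildeAt 𝒜 ℳ n x) : GrMod.LocMod 𝒜 (M := M) x) =
            LocalizedModule.mk (c' j) ⟨f j ^ K, TwistLib.G.pow_notMem hx K⟩ := fun j x hx => by
        refine (hs j x hx).trans ?_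
        refine LocalizedModule.mk_eq.mpr ⟨1, ?_⟩
        show (1 : A) • f j ^ K • c j = (1 : A) • f j ^ k j • f j ^ (K - k j) • c j
        rw [smul_smul (f j ^ k j), ← pow_add, hK j]
      choose N hN using fun l j => exists_pow_smul_agree f hd hf (n : ℤ) s (hc' l) (hc' j) (hs' l) (hs' j)
      let T := Finset.univ.sup fun p : Fin r × Fin r => N p.1 p.2
      obtain ⟨m, hm, hmj⟩ := hS (K + T) (fun j => f j ^ T • c' j) (fun j => by
          rw [add_mul, add_comm (K * d j), add_assoc]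
          exact SetLike.GradedSMul.smul_mem (TwistLib.G.pow_mem_deg (hf j) T)
            (mem_of_inDeg (by push_cast; ring) (hc' j))) fun j l => by
          obtain ⟨t, ht⟩ := Nat.exists_eq_add_of_le
            (Finset.le_sup (f := fun p : Fin r × Fin r => N p.1 p.2) (Finset.mem_univ (l, j)))
          have h := congrArg (fun y : M => (f l * f j) ^ t • y) (hN l j)
          simp only [smul_zero, ← sub_eq_add_neg, smul_sub, sub_eq_zero, smul_smul] at h
          simp only [smul_smul]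
          rw [show T = N l j + t from ht]
          convert h using 2 <;> ring
      refine ⟨⟨m, hm⟩, locOf_injective f hd hf hirr (n : ℤ) ?_⟩
      refine (locOf_alpha f hd hf ⟨m, hm⟩).trans (funext fun j => ?_)
      obtain ⟨N', hN'⟩ := hmj j
      rw [he' j, ← mk_pow_shift (c' j) K T]
      refine LocalizedModule.mk_eq.mpr ⟨pw (f j) N', ?_⟩
      show f j ^ N' • f j ^ (K + T) • m = f j ^ N' • (1 : A) • f j ^ T • c' j
      rw [one_smul]
      exact hN'
  · intro hb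
    refine ⟨fun m hm h => ?_, fun k c hc hcl => ?_⟩
    · refine congrArg Subtype.val (hb.1 (locOf_injective f hd hf hirr (n : ℤ) ?_) : (⟨m, hm⟩ : ℳ n) = 0)
      refine (locOf_alpha f hd hf ⟨m, hm⟩).trans (Eq.trans (funext fun j => ?_)
        (locOf_alpha f hd hf (0 : ℳ n)).symm)
      rw [ZeroMemClass.coe_zero, map_zero]
      exact mk_eq_zero_iff.2 (h j)
    · obtain ⟨s, hs⟩ := exists_sect f hd hf hirr (n : ℤ) k c
        (fun j => Or.inl ⟨k * d j + n, by push_cast; ring, hc j⟩) fun j l => ⟨0, by rw [hcl j l]⟩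
      obtain ⟨m, rfl⟩ := hb.2 s
      refine ⟨m.1, m.2, fun j => ?_⟩
      obtain ⟨⟨-, N, rfl⟩, hN⟩ := LocalizedModule.mk_eq.1
        (congrFun ((locOf_alpha f hd hf m).symm.trans hs) j : LocalizedModule.mk m.1 1 = _)
      exact ⟨N, by simpa [Submonoid.smul_def, pw] using hN⟩

end char

section loc

variable {A σ : Type u} [CommRing A] [IsNoetherianRing A] [SetLike σ A] [AddSubgroupClass σ A] {𝒜 : ℕ → σ} [GradedRing 𝒜]
variable {B σ' : Type u} [CommRing B] [IsNoetherianRing B] [SetLike σ' B] [AddSubgroupClass σ' B] {ℬ : ℕ → σ'} [GradedRing ℬ]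
variable {M τ : Type u} [AddCommGroup M] [Module A M] [SetLike τ M] [AddSubgroupClass τ M] {ℳ : ℕ → τ}
  [SetLike.GradedSMul 𝒜 ℳ] [DirectSum.Decomposition ℳ]
variable {N τ' : Type u} [AddCommGroup N] [Module B N] [SetLike τ' N] [AddSubgroupClass τ' N] {𝒩 : ℕ → τ'}
  [SetLike.GradedSMul ℬ 𝒩] [DirectSum.Decomposition 𝒩]
variable {ψ : 𝒜 →+*ᵍ ℬ} {v : M →ₛₗ[ψ.toRingHom] N} (hv : ∀ (i : ℕ) (m : M), m ∈ ℳ i → v m ∈ 𝒩 i)
  {c : A} (h : TwistLib.G.IsGrLoc ψ v c) {r : ℕ} {f : Fin r → A} {d : Fin r → ℕ} (hf : ∀ j, f j ∈ 𝒜 (d j))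

omit [DirectSum.Decomposition 𝒩] in
theorem map_pow_smul (a : A) (k : ℕ) (m : M) : v (a ^ k • m) = ψ a ^ k • v m :=
  (map_smulₛₗ v _ m).trans (congrArg (· • v m) (map_pow ψ.toRingHom a k))

include hv in
theorem v_compZ (z : ℤ) (m : M) : v (compZ ℳ z m) = compZ 𝒩 z (v m) := by
  induction m using DirectSum.Decomposition.inductionOn (ℳ := ℳ) with
  | zero => simp
  | @homogeneous i m =>
    rw [compZ_of_mem m.2, compZ_of_mem (hv i m m.2)]
    split_ifs <;> simp
  | add x y hx hy => simp only [map_add, hx, hy]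

include hv h in
/-- Elements of degree `i` are fractions of elements of degree `i`. -/
theorem surj_deg {i : ℕ} {y : N} (hy : y ∈ 𝒩 i) : ∃ (m : M) (k : ℕ), m ∈ ℳ i ∧ ψ c ^ k • y = v m := by
  obtain ⟨m, k, hm⟩ := h.surjM y
  have hy' : ψ c ^ k • y ∈ 𝒩 i := by
    simpa using SetLike.GradedSMul.smul_mem (TwistLib.G.pow_zero_mem (ψ.map_mem h.mem) k) hy
  refine ⟨compZ ℳ (i : ℤ) m, k, compZ_mem i m, ?_⟩
  rw [v_compZ hv, ← hm, compZ_of_mem hy', if_pos rfl]

theorem pow_smul_comm (a b : A) (k l : ℕ) (m : M) : a ^ k • b ^ l • m = b ^ l • a ^ k • m :=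
  smul_comm _ _ _

theorem pow_smul_add (a : A) (k l : ℕ) (m : M) : a ^ (k + l) • m = a ^ k • a ^ l • m := by
  rw [pow_add, mul_smul]

theorem pow_smul_mem {i : ℕ} {a : A} (ha : a ∈ 𝒜 0) (k : ℕ) {m : M} (hm : m ∈ ℳ i) : a ^ k • m ∈ ℳ i := by
  simpa using SetLike.GradedSMul.smul_mem (TwistLib.G.pow_zero_mem ha k) hm

theorem pow_smul_eq_zero {a : A} {k k' : ℕ} (hk : k ≤ k') {m : M} (hm : a ^ k • m = 0) : a ^ k' • m = 0 := by
  obtain ⟨t, rfl⟩ := Nat.exists_eq_add_of_le hk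
  rw [add_comm, pow_smul_add, hm, smul_zero]

include hv h hf in
/-- `Good` passes to the localisation at a degree zero element. -/
theorem good_map {n : ℕ} (hg : Good ℳ f d n) : Good 𝒩 (fun j => ψ (f j)) d n := by
  obtain ⟨hI, hS⟩ := hg
  refine ⟨fun y hy hz => ?_, fun k y hy hyl => ?_⟩
  · obtain ⟨m, e, hm, hme⟩ := surj_deg hv h hy
    choose P hP using hz
    choose Q hQ using fun j => h.kerM (f j ^ P j • m) (by
      rw [map_pow_smul, ← hme, smul_comm, hP j, smul_zero])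
    have h0 := hI _ (pow_smul_mem h.mem (Finset.univ.sup Q) hm) fun j =>
      ⟨P j, by rw [smul_comm]; exact pow_smul_eq_zero (Finset.le_sup (f := Q) (Finset.mem_univ j)) (hQ j)⟩
    have h1 := congrArg v h0
    rw [map_pow_smul, ← hme, map_zero, ← mul_smul, ← pow_add] at h1
    exact (IsUnit.smul_eq_zero (h.isUnit.pow _)).1 h1
  · choose a e ha hae using fun j => surj_deg hv h (hy j)
    let E := Finset.univ.sup e
    let a' : Fin r → M := fun j => c ^ (E - e j) • a j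
    have ha' : ∀ j, v (a' j) = ψ c ^ E • y j := fun j => by
      rw [map_pow_smul, ← hae j, ← mul_smul, ← pow_add,
        Nat.sub_add_cancel (Finset.le_sup (f := e) (Finset.mem_univ j))]
    choose Q hQ using fun p : Fin r × Fin r => h.kerM (f p.2 ^ k • a' p.1 - f p.1 ^ k • a' p.2) (by
      rw [map_sub, map_pow_smul (a := f p.2) (m := a' p.1), map_pow_smul (a := f p.1) (m := a' p.2), ha', ha',
        smul_comm, hyl p.1 p.2, smul_comm, sub_self])
    let Q' := Finset.univ.sup Q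
    obtain ⟨m, hm, hmj⟩ := hS k (fun j => c ^ Q' • a' j)
      (fun j => pow_smul_mem h.mem _ (pow_smul_mem h.mem _ (ha j))) fun j l => by
        have := pow_smul_eq_zero (Finset.le_sup (f := Q) (Finset.mem_univ (j, l))) (hQ (j, l))
        rw [smul_sub, sub_eq_zero] at this
        rw [pow_smul_comm (f l) c, pow_smul_comm (f j) c]
        exact this
    have hu : IsUnit (ψ c ^ (Q' + E)) := h.isUnit.pow _
    obtain ⟨m', hm'⟩ : ∃ m' : N, ψ c ^ (Q' + E) • m' = v m := ⟨(↑hu.unit⁻¹ : B) • v m, by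
      rw [smul_smul, IsUnit.mul_val_inv, one_smul]⟩
    refine ⟨compZ 𝒩 (n : ℤ) m', compZ_mem n m', fun j => ?_⟩
    obtain ⟨P, hP⟩ := hmj j
    have hψ0 : ψ c ^ (Q' + E) ∈ ℬ 0 := TwistLib.G.pow_zero_mem (ψ.map_mem h.mem) _
    have hcomp : ψ c ^ (Q' + E) • compZ 𝒩 (n : ℤ) m' = v m := by
      rw [← compZ_smul hψ0, hm', Nat.cast_zero, zero_add, compZ_of_mem (hv n m hm), if_pos rfl]
    refine ⟨P, hu.smul_left_cancel.1 ?_⟩
    have := congrArg v hP
    rw [map_pow_smul, map_pow_smul, map_pow_smul, map_pow_smul, ha', ← hcomp] at this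
    rw [smul_comm _ (ψ (f j) ^ P), smul_comm _ (ψ (f j) ^ k), this, smul_comm _ (ψ (f j) ^ P),
      ← mul_smul (ψ c ^ Q'), ← pow_add]

end loc

section glue

variable {A σ : Type u} [CommRing A] [IsNoetherianRing A] [SetLike σ A] [AddSubgroupClass σ A] {𝒜 : ℕ → σ} [GradedRing 𝒜]
variable {M τ : Type u} [AddCommGroup M] [Module A M] [SetLike τ M] [AddSubgroupClass τ M] {ℳ : ℕ → τ}
  [SetLike.GradedSMul 𝒜 ℳ] [DirectSum.Decomposition ℳ]
variable {ι : Type u} (c : ι → A) (hc : Ideal.span (Set.range c) = ⊤)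
  {B : ι → Type u} {σ' : ι → Type u} [∀ i, CommRing (B i)] [∀ i, IsNoetherianRing (B i)] [∀ i, SetLike (σ' i) (B i)]
  [∀ i, AddSubgroupClass (σ' i) (B i)] {ℬ : ∀ i, ℕ → σ' i} [∀ i, GradedRing (ℬ i)]
  {N : ι → Type u} {τ' : ι → Type u} [∀ i, AddCommGroup (N i)] [∀ i, Module (B i) (N i)]
  [∀ i, SetLike (τ' i) (N i)] [∀ i, AddSubgroupClass (τ' i) (N i)] {𝒩 : ∀ i, ℕ → τ' i}
  [∀ i, SetLike.GradedSMul (ℬ i) (𝒩 i)] [∀ i, DirectSum.Decomposition (𝒩 i)]
  (ψ : ∀ i, 𝒜 →+*ᵍ ℬ i) (v : ∀ i, M →ₛₗ[(ψ i).toRingHom] N i)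
  (hv : ∀ i (k : ℕ) (m : M), m ∈ ℳ k → v i m ∈ 𝒩 i k)
  (h : ∀ i, TwistLib.G.IsGrLoc (ψ i) (v i) (c i))
  {r : ℕ} {f : Fin r → A} {d : Fin r → ℕ} (hf : ∀ j, f j ∈ 𝒜 (d j))

include hc in
theorem top_of_pow_mem {J : Ideal A} (hJ : ∀ i, ∃ e : ℕ, c i ^ e ∈ J) : (1 : A) ∈ J := by
  refine (Ideal.eq_top_iff_one J).1 (Ideal.radical_eq_top.1 (top_le_iff.1 (hc ▸ Ideal.span_le.2 ?_)))
  rintro _ ⟨i, rfl⟩
  exact hJ i

include hc hv h hf in
/-- `Good` is local for a family of degree zero elements generating the unit ideal. -/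
theorem good_of_cover {n : ℕ} (hg : ∀ i, Good (𝒩 i) (fun j => ψ i (f j)) d n) : Good ℳ f d n := by
  refine ⟨fun m hm hz => ?_, fun k y hy hyl => ?_⟩
  · have := top_of_pow_mem c hc (J := LinearMap.ker (LinearMap.toSpanSingleton A M m)) fun i => by
      obtain ⟨e, he⟩ := (h i).kerM m ((hg i).1 _ (hv i n m hm) fun j => by
        obtain ⟨P, hP⟩ := hz j
        exact ⟨P, by rw [← map_pow_smul, hP, map_zero]⟩)
      exact ⟨e, he⟩
    simpa using this
  · let J : Ideal A :=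
      { carrier := {b | ∃ x, ∀ j, ∃ P : ℕ, f j ^ P • f j ^ k • x = f j ^ P • b • y j}
        zero_mem' := ⟨0, fun j => ⟨0, by simp⟩⟩
        add_mem' := by
          rintro b b' ⟨x, hx⟩ ⟨x', hx'⟩
          refine ⟨x + x', fun j => ?_⟩
          obtain ⟨P, hP⟩ := hx j
          obtain ⟨P', hP'⟩ := hx' j
          refine ⟨P + P', ?_⟩
          simp only [smul_add, add_smul, pow_smul_add (f j) P P']
          congr 1
          · rw [pow_smul_comm (f j) (f j) P P', hP, pow_smul_comm (f j) (f j) P' P]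
          · rw [hP']
        smul_mem' := by
          rintro a b ⟨x, hx⟩
          refine ⟨a • x, fun j => ?_⟩
          obtain ⟨P, hP⟩ := hx j
          exact ⟨P, by rw [smul_eq_mul, mul_smul, smul_comm (f j ^ k) a, smul_comm (f j ^ P) a, hP,
            smul_comm (f j ^ P) a]⟩ }
    obtain ⟨x, hx⟩ : (1 : A) ∈ J := top_of_pow_mem c hc fun i => by
      obtain ⟨m, hm, hmj⟩ := (hg i).2 k (fun j => v i (y j)) (fun j => hv i _ _ (hy j)) fun j l => by
        rw [← map_pow_smul, hyl j l, map_pow_smul]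
      obtain ⟨a, e, -, hae⟩ := surj_deg (hv i) (h i) hm
      choose P hP using hmj
      choose Q hQ using fun j => (h i).kerM (f j ^ P j • (f j ^ k • a - c i ^ e • y j)) (by
        rw [map_pow_smul, map_sub, map_pow_smul, map_pow_smul, ← hae, smul_comm (ψ i (f j) ^ k), smul_sub,
          smul_comm (ψ i (f j) ^ P j), hP j, smul_comm (ψ i (f j) ^ P j), sub_self])
      refine ⟨Finset.univ.sup Q + e, c i ^ Finset.univ.sup Q • a, fun j => ⟨P j, ?_⟩⟩
      have h0 := pow_smul_eq_zero (Finset.le_sup (f := Q) (Finset.mem_univ j)) (hQ j)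
      rw [smul_sub, smul_sub, sub_eq_zero] at h0
      rw [pow_smul_comm (f j) (c i) k, pow_smul_comm (f j) (c i) (P j), h0, pow_smul_add]
      simp only [pow_smul_comm (f j) (c i) (P j)]
    refine ⟨compZ ℳ (n : ℤ) x, compZ_mem n x, fun j => ?_⟩
    obtain ⟨P, hP⟩ := hx j
    refine ⟨P, ?_⟩
    have := congrArg (compZ ℳ (((P * d j : ℕ) : ℤ) + (((k * d j : ℕ) : ℤ) + (n : ℤ)))) hP
    rw [one_smul, compZ_smul (TwistLib.G.pow_mem_deg (hf j) P), compZ_smul (TwistLib.G.pow_mem_deg (hf j) k),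
      compZ_smul (TwistLib.G.pow_mem_deg (hf j) P),
      compZ_of_mem (hy j), if_pos (by push_cast; ring)] at this
    exact this

end glue

end Groth.Agent.GrAlphaLocal14
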